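import Cfsg.Agent.H601.K4.Defs

/-!
# S4547: the interface of the rows (hub helper821)

For a finite nonabelian simple group `S`:

* `Rk n P` : `P` maps onto an elementary abelian group of order `2 ^ n`;
* `D3 G` : the Sylow 2-subgroups of `G` need at least three generators;
* `XCond G` : some 2-element `x` with `|N_G(<x>)|_2 ≤ 2 |x|` (then `G` has at most four good characters, its Sylow
  2-subgroups have at most two generators, and `XCond` passes to overgroups of odd index);
* `TwoPow τ` : `τ` has 2-power order modulo inner automorphisms; `IsInn τ`: inner;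
* `AutExt τ` : the group `Inn S <τ>`;
* `GInv3 τ` : three good characters of `S` which are `τ`-invariant;
* `BaseRow S`, `ExtRow S τ`, `Row S`.
-/

set_option autoImplicit false

namespace Cfsg.Agent.H821.K547

open Cfsg Cfsg.Agent.H601.K4

universe u

/-- `P` maps onto an elementary abelian group of order `2 ^ n` -/
def Rk (n : ℕ) (P : Type u) [Group P] : Prop :=
  ∃ f : P →* Multiplicative (Fin n → ZMod 2), Function.Surjective f

/-- the Sylow 2-subgroups need at least three generators -/
def D3 (G : Type u) [Group G] : Prop := ∀ Q : Sylow 2 G, Rk 3 Q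

/-- some 2-element `x` with `|N_G(<x>)|_2 ≤ 2 |x|` -/
def XCond (G : Type u) [Group G] : Prop :=
  ∃ (x : G) (n : ℕ), orderOf x = 2 ^ n ∧ ¬ 2 ^ (n + 2) ∣ Nat.card ↥(Subgroup.normalizer (Subgroup.zpowers x : Set G))

section

variable {S : Type u} [Group S]

/-- an inner automorphism -/
def IsInn (τ : MulAut S) : Prop := ∃ s : S, ∀ x, τ x = s * x * s⁻¹

/-- of 2-power order modulo inner automorphisms -/
def TwoPow (τ : MulAut S) : Prop := ∃ (k : ℕ) (s : S), ∀ x, (τ ^ 2 ^ k) x = s * x * s⁻¹

/-- the group `Inn S <τ>` -/
def AutExt (τ : MulAut S) : Subgroup (MulAut S) := (MulAut.conj : S →* MulAut S).range ⊔ Subgroup.zpowers τ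

/-- three good `τ`-invariant characters -/
def GInv3 (τ : MulAut S) : Prop :=
  ∃ χ : Fin 3 → S → ℂ, Function.Injective χ ∧ ∀ i, Good (χ i) ∧ ∀ x, χ i (τ x) = χ i x

end

/-- the row of `S` itself -/
def BaseRow (S : Type u) [Group S] : Prop := (Good5 S ∧ D3 S) ∨ XCond S

/-- the row of an outer 2-automorphism: `AutExt τ` has four good characters (equivalently `S` has two `τ`-invariant
good characters) iff its Sylow 2-subgroups have two generators -/
def ExtRow (S : Type u) [Group S] (τ : MulAut S) : Prop := GInv3 τ ↔ D3 (AutExt τ)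

/-- everything that is needed for S4547 about a finite nonabelian simple group -/
structure Row (S : Type u) [Group S] : Prop where
  base : BaseRow S
  ext : ∀ τ : MulAut S, TwoPow τ → ¬ IsInn τ → ExtRow S τ

end Cfsg.Agent.H821.K547
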